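import Cfsg.Agent.LyCert.Index
import Cfsg.Agent.LyThree.Data.Perms

/-! An element of order three of `G₂(5)` in the presented Lyons group. -/

set_option autoImplicit false

namespace CfsgLib.LyThree

open CfsgLib.CosetEnum CfsgLib.LyG2 CfsgLib.LyCert

/-- The element of order three in `G₂(5)`. -/
noncomputable def xP : P := prodw pl xW

/-- The element of order three in `Ly`. -/
noncomputable def xT : Cfsg.Spor.Ly := psi xP

theorem xW_low : ∀ x ∈ xW, x < 16 := by decide +kernel

end CfsgLib.LyThree
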