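import Cfsg.Agent.LyThree.Model
import Mathlib.Tactic.IntervalCases

/-! Kernel checks: the action on the basis. -/

set_option autoImplicit false
set_option maxRecDepth 100000
set_option Elab.async false

namespace CfsgLib.LyThree

open CfsgLib.CosetEnum CfsgLib.LyG2 CfsgLib.LyLower

theorem basis0_0 : chkBasis (cW.getD 0 []) (cMat 0) 0 = true := by decide +kernel
theorem basis0_1 : chkBasis (cW.getD 0 []) (cMat 0) 3 = true := by decide +kernel
theorem basis0_2 : chkBasis (cW.getD 0 []) (cMat 0) 6 = true := by decide +kernel
theorem basis0_3 : chkBasis (cW.getD 0 []) (cMat 0) 9 = true := by decide +kernel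
theorem basis0_4 : chkBasis (cW.getD 0 []) (cMat 0) 12 = true := by decide +kernel
theorem basis0_5 : chkBasis (cW.getD 0 []) (cMat 0) 15 = true := by decide +kernel
theorem basis0_6 : chkBasis (cW.getD 0 []) (cMat 0) 18 = true := by decide +kernel

theorem basis0 : ∀ m < 7, chkBasis (cW.getD 0 []) (cMat 0) (3 * m) = true := by
  intro m h
  interval_cases m
  exacts [basis0_0, basis0_1, basis0_2, basis0_3, basis0_4, basis0_5, basis0_6]

theorem basis1_0 : chkBasis (cW.getD 1 []) (cMat 1) 0 = true := by decide +kernel
theorem basis1_1 : chkBasis (cW.getD 1 []) (cMat 1) 3 = true := by decide +kernel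
theorem basis1_2 : chkBasis (cW.getD 1 []) (cMat 1) 6 = true := by decide +kernel
theorem basis1_3 : chkBasis (cW.getD 1 []) (cMat 1) 9 = true := by decide +kernel
theorem basis1_4 : chkBasis (cW.getD 1 []) (cMat 1) 12 = true := by decide +kernel
theorem basis1_5 : chkBasis (cW.getD 1 []) (cMat 1) 15 = true := by decide +kernel
theorem basis1_6 : chkBasis (cW.getD 1 []) (cMat 1) 18 = true := by decide +kernel

theorem basis1 : ∀ m < 7, chkBasis (cW.getD 1 []) (cMat 1) (3 * m) = true := by
  intro m h
  interval_cases m
  exacts [basis1_0, basis1_1, basis1_2, basis1_3, basis1_4, basis1_5, basis1_6]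

theorem basis2_0 : chkBasis (cW.getD 2 []) (cMat 2) 0 = true := by decide +kernel
theorem basis2_1 : chkBasis (cW.getD 2 []) (cMat 2) 3 = true := by decide +kernel
theorem basis2_2 : chkBasis (cW.getD 2 []) (cMat 2) 6 = true := by decide +kernel
theorem basis2_3 : chkBasis (cW.getD 2 []) (cMat 2) 9 = true := by decide +kernel
theorem basis2_4 : chkBasis (cW.getD 2 []) (cMat 2) 12 = true := by decide +kernel
theorem basis2_5 : chkBasis (cW.getD 2 []) (cMat 2) 15 = true := by decide +kernel
theorem basis2_6 : chkBasis (cW.getD 2 []) (cMat 2) 18 = true := by decide +kernel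

theorem basis2 : ∀ m < 7, chkBasis (cW.getD 2 []) (cMat 2) (3 * m) = true := by
  intro m h
  interval_cases m
  exacts [basis2_0, basis2_1, basis2_2, basis2_3, basis2_4, basis2_5, basis2_6]

theorem fixes_0 : chkFix xW 0 = true := by decide +kernel
theorem fixes_1 : chkFix xW 3 = true := by decide +kernel
theorem fixes_2 : chkFix xW 6 = true := by decide +kernel
theorem fixes_3 : chkFix xW 9 = true := by decide +kernel
theorem fixes_4 : chkFix xW 12 = true := by decide +kernel
theorem fixes_5 : chkFix xW 15 = true := by decide +kernel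
theorem fixes_6 : chkFix xW 18 = true := by decide +kernel

theorem fixes : ∀ m < 7, chkFix xW (3 * m) = true := by
  intro m h
  interval_cases m
  exacts [fixes_0, fixes_1, fixes_2, fixes_3, fixes_4, fixes_5, fixes_6]

theorem cMats_ok : (List.range 3).all (fun i => goodX 21 (cMat i)) = true := by decide +kernel

theorem bRows_ok : (bRows.all fun v => Nat.beq (redV 111 v) v) = true := by decide +kernel

theorem piv_ok : chkPiv = true := by decide +kernel

end CfsgLib.LyThree
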