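import Cfsg.Agent.LyInvol.Local
import Cfsg.Agent.LyInvol.EnumK2
import Cfsg.Agent.LyInvol.EnumK3
import Cfsg.Agent.LyInvol.EnumK4
import Cfsg.Agent.LyThree.Basic
import Cfsg.Agent.LyThree.Data.Classes

/-!
Kernel checks for the fixed points of an element of order three: its centraliser in the stabiliser
of two points, and the classes of elements of order three in the stabilisers of the suborbits.
-/

set_option autoImplicit false
set_option maxRecDepth 100000
set_option Elab.async false

namespace CfsgLib.LyThree

open CfsgLib.CosetEnum CfsgLib.LyCert CfsgLib.LyInvol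

/-- The element fixes a point. -/
noncomputable def fixX (q : ℕ) : Bool :=
  bif Nat.blt q 19530 then Nat.beq (walk xW q) q else false

/-- A fixed point in the orbit of `5`. -/
noncomputable def fiveX (q : ℕ) : Bool := bif fixX q then inFive q else false

/-- The stabiliser of the points `0` and `5`. -/
noncomputable def eW : Enum := ⟨wGens, [wBase], 96, nodeW, ordW, 33, 15⟩

/-- A node commuting with the element on the base point. -/
noncomputable def commB (j : ℕ) : Bool :=
  bif Nat.blt j 96 then
    Nat.beq (pushPath eW 96 j (move 1 xW (pack [wBase]))) (move 1 xW (key eW j))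
  else false

theorem x_base : (fixX 0 && fixX 5) = true := by decide +kernel

theorem x_cube : LyCert.eqW (xW ++ xW ++ xW) [] = true := by decide +kernel

theorem x_moves : fixX 2 = false ∨ fixX 3 = false ∨ fixX 4 = false ∨ fixX 6 = false := by decide +kernel

theorem cnt_fixX : LyInvol.cntR fixX 15 0 = 252 := by decide +kernel

theorem cnt_fiveX : LyInvol.cntR fiveX 15 0 = 125 := by decide +kernel

theorem validW : Valid eW 7 where
  hN := by show 96 ≤ 2 ^ 7; norm_num
  hpos := by show 0 < 96; norm_num
  glow := by decide +kernel
  bpts := by decide +kernel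
  nodes := by decide +kernel
  ords := by decide +kernel

theorem wGens_fix : wGens.all (fun w => Nat.beq (walk w 0) 0 && Nat.beq (walk w 5) 5) = true := by
  decide +kernel

theorem cnt_comm : LyInvol.cntR commB 7 0 = 12 := by decide +kernel

/-- The word of a node. -/
noncomputable def pathW (E : Enum) (fuel j : ℕ) : List ℕ :=
  Nat.rec (fun _ => [])
    (fun _ ih j => bif Nat.beq j 0 then [] else ih (par E j) ++ gw' E (gix E j)) fuel j

/-- The tag of a node: `1` for the class of the element, `2` with a conjugator otherwise. -/
noncomputable def tagOf (t : ℕ → ℕ) (j : ℕ) : ℕ := look t 256 18 262143 j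

/-- A node in the class of the element. -/
noncomputable def markB (E : Enum) (t : ℕ → ℕ) (j : ℕ) : Bool :=
  bif Nat.blt j E.N then Nat.beq (Nat.land (tagOf t j) 3) 1 else false

/-- A node is no element of order three, or is marked, or is conjugate to a representative. -/
noncomputable def okCls (E : Enum) (t : ℕ → ℕ) (reps : List ℕ) (j : ℕ) : Bool :=
  bif Nat.blt j E.N && Nat.blt 0 j then
    bif Nat.beq (pushPath E E.N j (pushPath E E.N j (key E j))) (pack E.bases) then
      bif Nat.beq (Nat.land (tagOf t j) 3) 1 then true
      else force (Nat.shiftRight (tagOf t j) 5) fun m =>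
        force (Nat.land (Nat.shiftRight (tagOf t j) 2) 7) fun i =>
          Nat.blt m E.N && (Nat.blt i reps.length && (Nat.blt (reps.getD i 0) E.N &&
            Nat.beq (pushPath E E.N j (key E m)) (pushPath E E.N m (key E (reps.getD i 0)))))
    else true
  else true

/-- A word moves a block. -/
noncomputable def okMove (w : List ℕ) (b : ℕ) : Bool :=
  bif Nat.blt b 3906 then Bool.not (Nat.beq (Nat.div (walk w (Nat.mul 5 b)) 5) b) else true

theorem clsK2 : allR (okCls eK2 tagK2 repK2) 10 0 = true := by decide +kernel
theorem markK2 : LyInvol.cntR (markB eK2 tagK2) 10 0 = 2 := by decide +kernel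
theorem pathK2 : repK2.map (pathW eK2 1008) = repWordsK2 := by decide +kernel
theorem moveK2 : repWordsK2.all (fun w => allR (okMove w) 12 0) = true := by decide +kernel

theorem clsK3 : allR (okCls eK3 tagK3 repK3) 12 0 = true := by decide +kernel
theorem markK3 : LyInvol.cntR (markB eK3 tagK3) 12 0 = 20 := by decide +kernel
theorem pathK3 : repK3.map (pathW eK3 2880) = repWordsK3 := by decide +kernel
theorem moveK3 : repWordsK3.all (fun w => allR (okMove w) 12 0) = true := by decide +kernel

theorem clsK4 : allR (okCls eK4 tagK4 repK4) 13 0 = true := by decide +kernel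
theorem markK4 : LyInvol.cntR (markB eK4 tagK4) 13 0 = 56 := by decide +kernel
theorem pathK4 : repK4.map (pathW eK4 6048) = repWordsK4 := by decide +kernel
theorem moveK4 : repWordsK4.all (fun w => allR (okMove w) 12 0) = true := by decide +kernel

end CfsgLib.LyThree
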