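import Cfsg.Agent.LyThree.Data.Perms
import Cfsg.Agent.LyG2.Rep.Hom

/-! Kernel check of the commutators with the element of order three in degree 111. -/

set_option autoImplicit false
set_option maxRecDepth 100000
set_option Elab.async false

namespace CfsgLib.LyThree

open CfsgLib.LyG2

/-- The inverse of a word in the ten letters. -/
def winv (w : List ℕ) : List ℕ :=
  (w.map fun x => bif Nat.beq (Nat.mod x 2) 0 then Nat.add x 1 else Nat.sub x 1).reverse

/-- The commutators. -/
def commWords : List (List ℕ) := cW.map fun w => xW ++ w ++ winv xW ++ winv w

theorem comm_ok : chkWords 111 Rep.tabs commWords = true := by decide +kernel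

theorem comm_lt : commWords.all (fun w => w.all fun x => Nat.blt x 10) = true := by decide +kernel

theorem low_ok : (xW.all (fun x => Nat.blt x 8) && cW.all (fun w => w.all fun x => Nat.blt x 10)) = true := by
  decide +kernel

end CfsgLib.LyThree
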