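import Cfsg.Agent.LyThree.Model
import Cfsg.Agent.GraphPerm.McLData
import Mathlib.Tactic.IntervalCases

/-! Kernel checks: the sets and the tables. -/

set_option autoImplicit false
set_option maxRecDepth 100000
set_option Elab.async false

namespace CfsgLib.LyThree

open CfsgLib.CosetEnum CfsgLib.LyG2 CfsgLib.LyLower

theorem masks_0 : allR okMask 10 0 = true := by decide +kernel
theorem masks_1 : allR okMask 10 1024 = true := by decide +kernel
theorem masks_2 : allR okMask 10 2048 = true := by decide +kernel
theorem masks_3 : allR okMask 10 3072 = true := by decide +kernel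
theorem masks_4 : allR okMask 10 4096 = true := by decide +kernel
theorem masks_5 : allR okMask 10 5120 = true := by decide +kernel
theorem masks_6 : allR okMask 10 6144 = true := by decide +kernel
theorem masks_7 : allR okMask 10 7168 = true := by decide +kernel

theorem masks : ∀ b < 8, allR okMask 10 (1024 * b) = true := by
  intro b h
  interval_cases b
  exacts [masks_0, masks_1, masks_2, masks_3, masks_4, masks_5, masks_6, masks_7]

theorem masks_ok : allR okMask 13 0 = true := allR_eight masks

theorem sets0_0 : allR (okSet 0 (sTab 0)) 10 0 = true := by decide +kernel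
theorem sets0_1 : allR (okSet 0 (sTab 0)) 10 1024 = true := by decide +kernel
theorem sets0_2 : allR (okSet 0 (sTab 0)) 10 2048 = true := by decide +kernel
theorem sets0_3 : allR (okSet 0 (sTab 0)) 10 3072 = true := by decide +kernel
theorem sets0_4 : allR (okSet 0 (sTab 0)) 10 4096 = true := by decide +kernel
theorem sets0_5 : allR (okSet 0 (sTab 0)) 10 5120 = true := by decide +kernel
theorem sets0_6 : allR (okSet 0 (sTab 0)) 10 6144 = true := by decide +kernel
theorem sets0_7 : allR (okSet 0 (sTab 0)) 10 7168 = true := by decide +kernel

theorem sets0 : ∀ b < 8, allR (okSet 0 (sTab 0)) 10 (1024 * b) = true := by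
  intro b h
  interval_cases b
  exacts [sets0_0, sets0_1, sets0_2, sets0_3, sets0_4, sets0_5, sets0_6, sets0_7]

theorem sets0_ok : allR (okSet 0 (sTab 0)) 13 0 = true := allR_eight sets0

theorem sets1_0 : allR (okSet 1 (sTab 1)) 10 0 = true := by decide +kernel
theorem sets1_1 : allR (okSet 1 (sTab 1)) 10 1024 = true := by decide +kernel
theorem sets1_2 : allR (okSet 1 (sTab 1)) 10 2048 = true := by decide +kernel
theorem sets1_3 : allR (okSet 1 (sTab 1)) 10 3072 = true := by decide +kernel
theorem sets1_4 : allR (okSet 1 (sTab 1)) 10 4096 = true := by decide +kernel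
theorem sets1_5 : allR (okSet 1 (sTab 1)) 10 5120 = true := by decide +kernel
theorem sets1_6 : allR (okSet 1 (sTab 1)) 10 6144 = true := by decide +kernel
theorem sets1_7 : allR (okSet 1 (sTab 1)) 10 7168 = true := by decide +kernel

theorem sets1 : ∀ b < 8, allR (okSet 1 (sTab 1)) 10 (1024 * b) = true := by
  intro b h
  interval_cases b
  exacts [sets1_0, sets1_1, sets1_2, sets1_3, sets1_4, sets1_5, sets1_6, sets1_7]

theorem sets1_ok : allR (okSet 1 (sTab 1)) 13 0 = true := allR_eight sets1

theorem sets2_0 : allR (okSet 2 (sTab 2)) 10 0 = true := by decide +kernel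
theorem sets2_1 : allR (okSet 2 (sTab 2)) 10 1024 = true := by decide +kernel
theorem sets2_2 : allR (okSet 2 (sTab 2)) 10 2048 = true := by decide +kernel
theorem sets2_3 : allR (okSet 2 (sTab 2)) 10 3072 = true := by decide +kernel
theorem sets2_4 : allR (okSet 2 (sTab 2)) 10 4096 = true := by decide +kernel
theorem sets2_5 : allR (okSet 2 (sTab 2)) 10 5120 = true := by decide +kernel
theorem sets2_6 : allR (okSet 2 (sTab 2)) 10 6144 = true := by decide +kernel
theorem sets2_7 : allR (okSet 2 (sTab 2)) 10 7168 = true := by decide +kernel

theorem sets2 : ∀ b < 8, allR (okSet 2 (sTab 2)) 10 (1024 * b) = true := by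
  intro b h
  interval_cases b
  exacts [sets2_0, sets2_1, sets2_2, sets2_3, sets2_4, sets2_5, sets2_6, sets2_7]

theorem sets2_ok : allR (okSet 2 (sTab 2)) 13 0 = true := allR_eight sets2

theorem points_ok : (List.range 275).all okPoint = true := by decide +kernel

theorem tabs_ok : (List.range 3).all okTab = true := by decide +kernel

theorem words_ok : (okWord GraphPerm.McLModel.data.a (abcWords.getD 0 []) &&
    (okWord GraphPerm.McLModel.data.b (abcWords.getD 1 []) &&
      okWord GraphPerm.McLModel.data.c (abcWords.getD 2 []))) = true := by decide +kernel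

end CfsgLib.LyThree
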