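import Cfsg.Agent.LyThree.Checks
import Cfsg.Agent.LyInvol.Upper

/-!
The centraliser of the element of order three in `Ly` has at most 2694384000 elements: at most
`1 + 252 + 750 + 2625 + 3500 = 7128` fixed cosets, and at most 378000 elements inside `G₂(5)`.
-/

set_option autoImplicit false
set_option maxRecDepth 100000

namespace CfsgLib.LyThree

open CfsgLib.CosetEnum CfsgLib.LyG2 CfsgLib.LyCert CfsgLib.LyInvol Subgroup

theorem fixX_iff {i : Pt} : fixX i = true ↔ act xP i = i := by
  rw [fixX, show Nat.blt (i : ℕ) 19530 = true from Nat.ble_eq_true_of_le i.isLt, cond_true]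
  have e := act_word (w := xW) xW_low i
  constructor
  · intro h
    have h' : (act xP)⁻¹ i = i := Fin.ext (e.trans (Nat.eq_of_beq_eq_true h))
    conv_lhs => rw [← h']
    rw [← Equiv.Perm.mul_apply, mul_inv_cancel, Equiv.Perm.one_apply]
  · intro h
    rw [← e, show (act (prodw pl xW))⁻¹ i = i from by
      rw [Equiv.Perm.inv_eq_iff_eq]; exact h.symm]
    exact Nat.beq_refl _

theorem x_fix0 : act xP (0 : Pt) = 0 :=
  fixX_iff.1 (show fixX 0 = true from (Bool.and_eq_true_iff.1 x_base).1)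

theorem x_fix5 : act xP (5 : Pt) = 5 :=
  fixX_iff.1 (show fixX 5 = true from (Bool.and_eq_true_iff.1 x_base).2)

theorem xP_cube : xP * xP * xP = 1 := by
  have h := LyCert.eqW_pl x_cube
  simp only [prodw, List.map_append, List.prod_append, List.map_nil, List.prod_nil] at h
  exact h

theorem xP_ne_one : xP ≠ 1 := by
  intro h
  have hfix : ∀ n < 19530, fixX n = true := fun n hn =>
    fixX_iff (i := ⟨n, hn⟩).2 (by rw [h, map_one]; rfl)
  have := x_moves
  rw [hfix 2 (by norm_num), hfix 3 (by norm_num), hfix 4 (by norm_num), hfix 6 (by norm_num)] at this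
  simp at this

theorem fixX_act {c : P} (hc : c ∈ centralizer ({xP} : Set P)) {i : Pt} (hi : act xP i = i) :
    fixX (act c i) = true := by
  rw [fixX_iff, ← Equiv.Perm.mul_apply, ← map_mul, mem_centralizer_iff.1 hc xP rfl, map_mul,
    Equiv.Perm.mul_apply, hi]

/-- The stabiliser of `0` and `5`. -/
noncomputable def S5 : Subgroup P :=
  M0 ⊓ (MulAction.stabilizer (Equiv.Perm Pt) (5 : Pt)).comap act

theorem wGroup_wGens : wGroup wGens = S5 := by
  refine eq_of_le_of_card_ge ((closure_le _).2 ?_) ?_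
  · rintro _ ⟨w, hw, rfl⟩
    have h := List.all_eq_true.1 wGens_fix w hw
    rw [Bool.and_eq_true] at h
    have hl : ∀ x ∈ w, x < 16 := lt_of_low (List.all_eq_true.1 validW.glow w hw)
    have h0 : (act (prodw pl w))⁻¹ (0 : Pt) = 0 :=
      Fin.ext ((act_word hl 0).trans (Nat.eq_of_beq_eq_true h.1))
    have h5 : (act (prodw pl w))⁻¹ (5 : Pt) = 5 :=
      Fin.ext ((act_word hl 5).trans (Nat.eq_of_beq_eq_true h.2))
    rw [Equiv.Perm.inv_eq_iff_eq] at h0 h5
    exact ⟨h0.symm, h5.symm⟩
  · exact le_trans card_stab_le (card_le_wGroup validW)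

theorem elt_surjective {E : Enum} {d : ℕ} (hv : Valid E d) {K : Subgroup P}
    (hgen : wGroup E.gens ≤ K) (hK : Nat.card K ≤ E.N) {s : P} (hs : s ∈ K) :
    ∃ j < E.N, elt E j = s := by
  have hinj : Function.Injective
      (fun t : Fin E.N => (⟨elt E t, hgen (elt_spec hv t.isLt).1⟩ : K)) :=
    fun a b h => Fin.ext (elt_injective hv a.isLt b.isLt (congrArg Subtype.val h))
  obtain ⟨t, ht⟩ := (hinj.bijective_of_nat_card_le (by rwa [Nat.card_fin])).2 ⟨s, hs⟩
  exact ⟨t, t.isLt, congrArg Subtype.val ht⟩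

theorem eq_of_keyOf {E : Enum} {d : ℕ} (hv : Valid E d) {K : Subgroup P}
    (hgen : wGroup E.gens ≤ K) (hK : Nat.card K ≤ E.N) {s u : P} (hs : s ∈ K) (hu : u ∈ K)
    (h : keyOf E s = keyOf E u) : s = u := by
  obtain ⟨a, ha, rfl⟩ := elt_surjective hv hgen hK hs
  obtain ⟨b, hb, rfl⟩ := elt_surjective hv hgen hK hu
  rw [(elt_spec hv ha).2.1, (elt_spec hv hb).2.1] at h
  rw [key_injective hv a ha b hb h]

theorem card_centralizer_S5 : Nat.card (centralizer ({xP} : Set P) ⊓ S5 : Subgroup P) ≤ 12 := by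
  have hgen : wGroup eW.gens ≤ S5 := le_of_eq wGroup_wGens
  have hK : Nat.card S5 ≤ eW.N := card_stab_le
  choose g hg hge using fun c : (centralizer ({xP} : Set P) ⊓ S5 : Subgroup P) =>
    elt_surjective validW hgen hK c.2.2
  have hmem : ∀ c, g c ∈ (Finset.Ico 0 (2 ^ 7)).filter fun i => commB i = true := by
    intro c
    have hN : g c < 96 := hg c
    refine Finset.mem_filter.2 ⟨Finset.mem_Ico.2 ⟨Nat.zero_le _, by omega⟩, ?_⟩
    rw [commB, show Nat.blt (g c) 96 = true from Nat.ble_eq_true_of_le hN, cond_true]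
    obtain ⟨-, hk, hp⟩ := elt_spec validW (hg c)
    have e1 : keyOf eW xP = move 1 xW (pack [wBase]) := by
      rw [← one_mul xP, xP, keyOf_mul validW 1 xW_low, keyOf_one]; rfl
    have e2 : keyOf eW (elt eW (g c) * xP) = move 1 xW (key eW (g c)) := by
      rw [xP, keyOf_mul validW _ xW_low, hk]; rfl
    rw [show pushPath eW 96 (g c) (move 1 xW (pack [wBase])) = keyOf eW (xP * elt eW (g c)) from
      (congrArg _ e1.symm).trans (hp xP), ← e2, hge c, mem_centralizer_iff.1 c.2.1 xP rfl]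
    exact Nat.beq_refl _
  have := Nat.card_le_card_of_injective
    (fun c => (⟨g c, hmem c⟩ : {i // i ∈ (Finset.Ico 0 (2 ^ 7)).filter fun i => commB i = true}))
    (fun a b h => Subtype.ext (by rw [← hge a, ← hge b]; exact congrArg (elt eW) (congrArg Subtype.val h)))
  have hc := cnt_comm
  rw [LyInvol.cntR_eq, zero_add] at hc
  rw [← hc]
  simpa only [Nat.card_eq_fintype_card, Fintype.card_coe] using this

/-- The centraliser of the element in `G₂(5)`. -/
theorem card_local_le : Nat.card (centralizer ({xP} : Set P)) ≤ 378000 := by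
  set C := centralizer ({xP} : Set P)
  have hC0 : Nat.card (C ⊓ M0 : Subgroup P) ≤ 125 * 12 := by
    refine le_trans (card_le_image_mul act _ (C ⊓ S5) (5 : Pt) {i : Pt | fiveX i = true}
      (fun c hc => ?_) fun c hc he => ⟨hc.1, hc.2, he⟩) ?_
    · show fiveX _ = true
      rw [fiveX, fixX_act hc.1 x_fix5, cond_true]
      exact five_act hc.2 5 five_mem
    · exact Nat.mul_le_mul (le_trans (card_le_cnt _ 15 (by norm_num)) cnt_fiveX.le)
        card_centralizer_S5
  refine le_trans (card_le_image_mul act C (C ⊓ M0) (0 : Pt) {i : Pt | fixX i = true}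
    (fun c hc => fixX_act hc x_fix0) fun c hc he => ⟨hc, he⟩) ?_
  exact le_trans (Nat.mul_le_mul (le_trans (card_le_cnt _ 15 (by norm_num)) cnt_fixX.le) hC0)
    (by norm_num)

/-- The words of the nodes. -/
theorem eltF_pathW {E : Enum} {d : ℕ} (hv : Valid E d) : ∀ (fuel j : ℕ), j < E.N →
    eltF E fuel j = prodw pl (pathW E fuel j) ∧ ∀ x ∈ pathW E fuel j, x < 16 := by
  intro fuel
  induction fuel with
  | zero => intro j _; exact ⟨by rw [eltF]; rfl, fun x hx => by simp [pathW] at hx⟩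
  | succ fuel ih =>
    intro j hj
    show eltF E (fuel + 1) j = prodw pl (bif Nat.beq j 0 then [] else
        pathW E fuel (par E j) ++ gw' E (gix E j)) ∧ ∀ x ∈ (bif Nat.beq j 0 then [] else
        pathW E fuel (par E j) ++ gw' E (gix E j)), x < 16
    rcases node_spec hv hj with ⟨rfl, -⟩ | ⟨h0, hp, hg, -⟩
    · rw [eltF, if_pos rfl]; exact ⟨rfl, fun x hx => by simp at hx⟩
    · obtain ⟨hl, -⟩ := gw'_spec hv hg
      obtain ⟨e, hw⟩ := ih (par E j) (lt_trans hp hj)
      rw [eltF, if_neg h0, show Nat.beq j 0 = false from by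
        cases h : Nat.beq j 0
        · rfl
        · exact absurd (Nat.eq_of_beq_eq_true h) h0, cond_false, e]
      refine ⟨?_, fun x hx => (List.mem_append.1 hx).elim (hw x) (hl x)⟩
      simp only [prodw, List.map_append, List.prod_append]

/-- A word moving every block is no conjugate of the element. -/
theorem not_conj {w : List ℕ} (hl : ∀ x ∈ w, x < 16) (hm : allR (okMove w) 12 0 = true) (g : P) :
    prodw pl w ≠ g⁻¹ * xP * g := by
  intro h
  set q : Pt := (act g)⁻¹ 0 with hq
  have hs : act (prodw pl w) q = q := by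
    rw [h, map_mul, map_mul, Equiv.Perm.mul_apply, Equiv.Perm.mul_apply, hq, ← Equiv.Perm.mul_apply
      (act g), mul_inv_cancel, Equiv.Perm.one_apply, x_fix0, map_inv]
  have hlt : 5 * (q.val / 5) < 19530 := by have := q.isLt; omega
  have hb := (block_act (prodw pl w) ⟨_, hlt⟩ q (by show 5 * _ / 5 = _; omega)).2
  rw [show ((act (prodw pl w))⁻¹ q) = q from by rw [Equiv.Perm.inv_eq_iff_eq]; exact hs.symm,
    act_word hl] at hb
  have h' := allR_spec 12 0 hm (q.val / 5) (Nat.zero_le _) (by have := q.isLt; omega)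
  rw [okMove, show Nat.blt (q.val / 5) 3906 = true from
    Nat.ble_eq_true_of_le (show q.val / 5 + 1 ≤ 3906 by have := q.isLt; omega), cond_true] at h'
  simp only [Nat.mul_eq] at h'
  rw [show (walk w (5 * (q.val / 5))).div 5 = q.val / 5 from hb, Nat.beq_refl] at h'
  exact Bool.noConfusion h'

/-- The conjugates of the element inside a subgroup with as many elements as nodes. -/
theorem card_class_le {E : Enum} {d : ℕ} (hv : Valid E d) {t : ℕ → ℕ} {reps : List ℕ}
    {rw' : List (List ℕ)} (hc : allR (okCls E t reps) d 0 = true)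
    (hp : reps.map (pathW E E.N) = rw') (hm : rw'.all (fun w => allR (okMove w) 12 0) = true)
    {K : Subgroup P} (hgen : wGroup E.gens ≤ K) (hK : Nat.card K ≤ E.N) :
    Nat.card {s : P // s ∈ K ∧ ∃ g : P, s = g⁻¹ * xP * g} ≤ LyInvol.cntR (markB E t) d 0 := by
  rw [LyInvol.cntR_eq, zero_add]
  choose g hg hge using fun x : {s : P // s ∈ K ∧ ∃ g : P, s = g⁻¹ * xP * g} =>
    elt_surjective hv hgen hK x.2.1
  have hmem : ∀ x, g x ∈ (Finset.Ico 0 (2 ^ d)).filter fun i => markB E t i = true := by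
    intro x
    have hd := hv.hN
    have hlt := hg x
    refine Finset.mem_filter.2 ⟨Finset.mem_Ico.2 ⟨Nat.zero_le _, by omega⟩, ?_⟩
    obtain ⟨u, hu⟩ := x.2.2
    rw [← hge x] at hu
    set s := elt E (g x) with hsdef
    obtain ⟨hsm, hk, hpush⟩ := elt_spec hv hlt
    rw [← hsdef] at hsm hk hpush
    have hne : s ≠ 1 := by
      rw [hu]; intro h
      exact xP_ne_one (by
        have := congrArg (fun z => u * z * u⁻¹) h
        simpa [mul_assoc] using this)
    have hcube : pushPath E E.N (g x) (pushPath E E.N (g x) (key E (g x))) = pack E.bases := by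
      rw [← hk, hpush, hpush, hu, show u⁻¹ * xP * u * (u⁻¹ * xP * u) * (u⁻¹ * xP * u) =
        u⁻¹ * (xP * xP * xP) * u by group, xP_cube, mul_one, inv_mul_cancel, keyOf_one]
    have hpos : 0 < g x := by
      refine Nat.pos_of_ne_zero fun h0 => hne ?_
      rw [hsdef, h0, elt]
      cases E.N with
      | zero => rfl
      | succ n => rw [eltF, if_pos rfl]
    have h := allR_spec d 0 hc (g x) (Nat.zero_le _) (by omega)
    rw [okCls, show Nat.blt (g x) E.N = true from Nat.ble_eq_true_of_le hlt,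
      show Nat.blt 0 (g x) = true from Nat.ble_eq_true_of_le hpos, Bool.and_self, cond_true, hcube,
      Nat.beq_refl, cond_true] at h
    rw [markB, show Nat.blt (g x) E.N = true from Nat.ble_eq_true_of_le hlt, cond_true]
    cases h1 : Nat.beq (Nat.land (tagOf t (g x)) 3) 1 with
    | true => rfl
    | false =>
      exfalso
      rw [h1, cond_false] at h
      simp only [force_eq, Bool.and_eq_true] at h
      obtain ⟨hmlt, hilt, hrlt, he⟩ := h
      have hmlt := Nat.le_of_ble_eq_true hmlt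
      have hrlt := Nat.le_of_ble_eq_true hrlt
      have hilt := Nat.le_of_ble_eq_true hilt
      generalize Nat.land (Nat.shiftRight (tagOf t (g x)) 2) 7 = i at hilt hrlt he
      generalize Nat.shiftRight (tagOf t (g x)) 5 = m at hmlt he
      obtain ⟨hmm, hkm, hpm⟩ := elt_spec hv hmlt
      obtain ⟨hrm, hkr, -⟩ := elt_spec hv hrlt
      have e := Nat.eq_of_beq_eq_true he
      rw [← hkm, hpush, ← hkr, hpm] at e
      have e' : elt E m * s = elt E (reps.getD i 0) * elt E m :=
        eq_of_keyOf hv hgen hK (mul_mem (hgen hmm) (hgen hsm)) (mul_mem (hgen hrm) (hgen hmm)) e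
      obtain ⟨hpath, hlow⟩ := eltF_pathW hv E.N (reps.getD i 0) hrlt
      have hr : allR (okMove (pathW E E.N (reps.getD i 0))) 12 0 = true := by
        refine List.all_eq_true.1 hm _ (hp ▸ List.mem_map.2 ⟨_, ?_, rfl⟩)
        rw [List.getD_eq_getElem _ _ hilt]; exact List.getElem_mem _
      refine not_conj hlow hr (u * (elt E m)⁻¹) (hpath.symm.trans ?_)
      show elt E (reps.getD i 0) = _
      rw [show (u * (elt E m)⁻¹)⁻¹ * xP * (u * (elt E m)⁻¹) = elt E m * (u⁻¹ * xP * u) * (elt E m)⁻¹ by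
        group, ← hu, e', mul_inv_cancel_right]
  have := Nat.card_le_card_of_injective
    (fun x => (⟨g x, hmem x⟩ : {i // i ∈ (Finset.Ico 0 (2 ^ d)).filter fun i => markB E t i = true}))
    (fun x y h => Subtype.ext (by
      rw [← hge x, ← hge y]; exact congrArg (fun z => elt E z) (congrArg Subtype.val h)))
  simpa only [Nat.card_eq_fintype_card, Fintype.card_coe] using this

/-- The fixed cosets in a suborbit. -/
def fixOrb (j : ℕ) : Set (Cfsg.Spor.Ly ⧸ Hs) :=
  {x | xT • x = x ∧ ∃ g : P, psi g • LyCert.base j = x}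

theorem fixOrb_spec {j : ℕ} {x : Cfsg.Spor.Ly ⧸ Hs} {g : P} (hx : xT • x = x)
    (hg : psi g • LyCert.base j = x) : g⁻¹ * xP * g ∈ K j := by
  rw [← hg, xT, smul_smul, ← map_mul] at hx
  have := psi_smul_base_eq.1 hx.symm
  rwa [← mul_assoc] at this

theorem card_fixOrb_mul (j : ℕ) :
    Nat.card (fixOrb j) * Nat.card (K j) ≤
      Nat.card {s : P // s ∈ K j ∧ ∃ g : P, s = g⁻¹ * xP * g} * 378000 := by
  classical
  let S : Set P := {g | g⁻¹ * xP * g ∈ K j}
  have h1 : Nat.card (fixOrb j) * Nat.card (K j) ≤ Nat.card S := by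
    rw [← Nat.card_prod]
    have hspec : ∀ x : fixOrb j, ∃ g : P, psi g • LyCert.base j = x.1 ∧ g⁻¹ * xP * g ∈ K j := fun x => by
      obtain ⟨hx, g, hg⟩ := x.2; exact ⟨g, hg, fixOrb_spec hx hg⟩
    choose g hg hgK using hspec
    refine Nat.card_le_card_of_injective (fun p : fixOrb j × K j => (⟨g p.1 * p.2, ?_⟩ : S)) ?_
    · show (g p.1 * p.2.1)⁻¹ * xP * (g p.1 * p.2.1) ∈ K j
      rw [show (g p.1 * p.2.1)⁻¹ * xP * (g p.1 * p.2.1) =
        p.2.1⁻¹ * ((g p.1)⁻¹ * xP * g p.1) * p.2.1 by simp only [mul_inv_rev, mul_assoc]]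
      exact mul_mem (mul_mem (inv_mem p.2.2) (hgK p.1)) p.2.2
    · rintro ⟨x, k⟩ ⟨y, l⟩ h
      have e : g x * k.1 = g y * l.1 := congrArg Subtype.val h
      obtain rfl : x = y := Subtype.ext (by
        rw [← hg x, ← hg y, psi_smul_base_eq,
          show (g x)⁻¹ * g y = k.1 * l.1⁻¹ by rw [inv_mul_eq_iff_eq_mul, ← mul_assoc, e,
            mul_inv_cancel_right]]
        exact mul_mem k.2 (inv_mem l.2))
      exact Prod.ext rfl (Subtype.ext (mul_left_cancel e))
  refine le_trans h1 (le_trans ?_ (Nat.mul_le_mul_left _ card_local_le))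
  rw [← Nat.card_prod]
  let I := {s : P // s ∈ K j ∧ ∃ g : P, s = g⁻¹ * xP * g}
  let f : S → I := fun g => ⟨g.1⁻¹ * xP * g.1, g.2, g.1, rfl⟩
  have hrep : ∀ g : S, ∃ h : S, f h = f g := fun g => ⟨g, rfl⟩
  let r : I → P := fun i => if h : ∃ g : S, f g = i then h.choose.1 else 1
  have hr : ∀ g : S, (r (f g))⁻¹ * xP * r (f g) = g.1⁻¹ * xP * g.1 := fun g => by
    have h : ∃ h : S, f h = f g := hrep g
    simp only [r, dif_pos h]
    exact congrArg Subtype.val h.choose_spec
  refine Nat.card_le_card_of_injective (fun g : S =>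
    (f g, (⟨g.1 * (r (f g))⁻¹, mem_centralizer_iff.2 fun h hh => ?_⟩ : centralizer ({xP} : Set P)))) ?_
  · rw [Set.mem_singleton_iff.1 hh]
    have e := congrArg (fun z => g.1 * z * (r (f g))⁻¹) (hr g)
    simpa [mul_assoc] using e.symm
  · intro a b h
    have e1 := congrArg Prod.fst h
    have e2 := congrArg (fun p => (Prod.snd p).1) h
    simp only at e1 e2
    rw [e1] at e2
    exact Subtype.ext (mul_right_cancel e2)

theorem card_fixOrb_zero : Nat.card (fixOrb 0) ≤ 1 := by
  haveI : Subsingleton (fixOrb 0) := ⟨by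
    rintro ⟨_, -, g, rfl⟩ ⟨_, -, h, rfl⟩
    refine Subtype.ext (psi_smul_base_eq.2 (mem_K.2 ?_))
    simpa [Same, repv_zero] using psi_mem (g⁻¹ * h)⟩
  exact Finite.card_le_one_iff_subsingleton.2 inferInstance

theorem card_fixOrb_one : Nat.card (fixOrb 1) ≤ 252 := by
  refine le_trans ?_ (le_trans (card_le_cnt fixX 15 (by norm_num)) cnt_fixX.le)
  have hspec : ∀ x : fixOrb 1, ∃ g : P, psi g • LyCert.base 1 = x.1 ∧ fixX (pt g) = true := fun x => by
    obtain ⟨hx, g, hg⟩ := x.2
    have h := fixOrb_spec hx hg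
    rw [K1_eq, mem_M0, mul_assoc, pt_mul, map_inv, Equiv.Perm.inv_eq_iff_eq, pt_mul] at h
    refine ⟨g, hg, fixX_iff.2 ?_⟩
    exact h.trans (by rw [pt])
  choose g hg hgf using hspec
  refine Nat.card_le_card_of_injective
    (fun x => (⟨pt (g x), hgf x⟩ : {i : Pt | fixX i = true})) fun x y h => Subtype.ext ?_
  have e : pt (g x) = pt (g y) := congrArg Subtype.val h
  rw [← hg x, ← hg y, psi_smul_base_eq, K1_eq, mem_M0, pt_mul, map_inv, Equiv.Perm.inv_eq_iff_eq]
  exact e.symm

theorem card_fix_le : Nat.card {x : Cfsg.Spor.Ly ⧸ Hs | xT • x = x} ≤ 7128 := by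
  have hsum : Nat.card {x : Cfsg.Spor.Ly ⧸ Hs | xT • x = x} ≤ ∑ j : Fin 5, Nat.card (fixOrb j) := by
    rw [← Nat.card_sigma]
    refine Nat.card_le_card_of_surjective
      (fun p => (⟨p.2.1, p.2.2.1⟩ : {x : Cfsg.Spor.Ly ⧸ Hs | xT • x = x})) ?_
    rintro ⟨x, hx⟩
    obtain ⟨j, hj, g, rfl⟩ := exists_orbit x
    exact ⟨⟨⟨j, hj⟩, ⟨_, hx, g, rfl⟩⟩, rfl⟩
  have b0 := card_fixOrb_zero
  have b1 := card_fixOrb_one
  have b2 : Nat.card (fixOrb 2) * 1008 ≤ 2 * 378000 := by
    have hK : Nat.card (K 2) = 1008 := by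
      have := card_K_eq (j := 2) (by norm_num)
      rw [show subSize 2 = 5812500 from rfl] at this
      omega
    rw [← hK]
    refine le_trans (card_fixOrb_mul 2) (Nat.mul_le_mul_right _ ?_)
    exact le_trans (card_class_le validK2 clsK2 pathK2 moveK2 (wGroup_le_K _ (by decide +kernel))
      hK.le) markK2.le
  have b3 : Nat.card (fixOrb 3) * 2880 ≤ 20 * 378000 := by
    have hK : Nat.card (K 3) = 2880 := by
      have := card_K_eq (j := 3) (by norm_num)
      rw [show subSize 3 = 2034375 from rfl] at this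
      omega
    rw [← hK]
    refine le_trans (card_fixOrb_mul 3) (Nat.mul_le_mul_right _ ?_)
    exact le_trans (card_class_le validK3 clsK3 pathK3 moveK3 (wGroup_le_K _ (by decide +kernel))
      hK.le) markK3.le
  have b4 : Nat.card (fixOrb 4) * 6048 ≤ 56 * 378000 := by
    have hK : Nat.card (K 4) = 6048 := by
      have := card_K_eq (j := 4) (by norm_num)
      rw [show subSize 4 = 968750 from rfl] at this
      omega
    rw [← hK]
    refine le_trans (card_fixOrb_mul 4) (Nat.mul_le_mul_right _ ?_)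
    exact le_trans (card_class_le validK4 clsK4 pathK4 moveK4 (wGroup_le_K _ (by decide +kernel))
      hK.le) markK4.le
  simp only [Fin.sum_univ_five, Fin.val_zero, Fin.val_one, Fin.val_two] at hsum
  simp only [show ((3 : Fin 5) : ℕ) = 3 from rfl, show ((4 : Fin 5) : ℕ) = 4 from rfl] at hsum
  omega

/-- The centraliser of the element of order three has at most 2694384000 elements. -/
theorem card_le : Nat.card (centralizer ({xT} : Set Cfsg.Spor.Ly)) ≤ 2694384000 := by
  refine le_trans (card_le_image_mul (MulAction.toPermHom Cfsg.Spor.Ly (Cfsg.Spor.Ly ⧸ Hs)) _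
    ((centralizer ({xP} : Set P)).map psi) ((1 : Cfsg.Spor.Ly) : Cfsg.Spor.Ly ⧸ Hs)
    {x | xT • x = x} (fun c hc => ?_) (fun c hc he => ?_)) ?_
  · show xT • c • ((1 : Cfsg.Spor.Ly) : Cfsg.Spor.Ly ⧸ Hs) =
      c • ((1 : Cfsg.Spor.Ly) : Cfsg.Spor.Ly ⧸ Hs)
    rw [smul_smul, mem_centralizer_iff.1 hc xT rfl, ← smul_smul]
    congr 1
    rw [MulAction.Quotient.smul_coe, smul_eq_mul, QuotientGroup.eq]
    simpa [xT] using Hs.inv_mem (psi_mem xP)
  · have hcH : c ∈ Hs := by
      have he' : ((c * 1 : Cfsg.Spor.Ly) : Cfsg.Spor.Ly ⧸ Hs) = ((1 : Cfsg.Spor.Ly) : _) := he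
      simpa using Hs.inv_mem (QuotientGroup.eq.1 he')
    rw [← range_psi] at hcH
    obtain ⟨p, rfl⟩ := hcH
    refine mem_map_of_mem _ (mem_centralizer_iff.2 fun h hh => ?_)
    rw [Set.mem_singleton_iff.1 hh]
    apply psi_injective
    rw [map_mul, map_mul]
    exact mem_centralizer_iff.1 hc xT rfl
  · rw [card_map_of_injective psi_injective]
    exact le_trans (Nat.mul_le_mul card_fix_le card_local_le) (by norm_num)

end CfsgLib.LyThree
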