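import Cfsg.Agent.LyThree.VecChecks
import Cfsg.Agent.LyThree.BasisChecks
import Cfsg.Agent.LyThree.SetChecks
import Cfsg.Agent.LyThree.Commute
import Cfsg.Agent.LyThree.Upper
import Cfsg.Agent.LyInvol.Cover
import Cfsg.Agent.GraphMult.McL
import Cfsg.Agent.RankThree.McLModel
import Cfsg.Agent.Leech.MclSimple

/-!
The centraliser of the element of order three is a triple cover of the McLaughlin group: it permutes
7128 vectors, and through them 275 points.
-/

set_option autoImplicit false
set_option maxRecDepth 100000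

namespace CfsgLib.LyThree

open CfsgLib.CosetEnum CfsgLib.LyG2 CfsgLib.LyCert CfsgLib.LyInvol Subgroup Matrix
open Equiv (Perm)
open scoped MatrixGroups

theorem isSimple_Ly : IsSimpleGroup Cfsg.Spor.Ly := (isLy_of_dvd LyLower.card_dvd).1

theorem lv_inv (f : ℕ → Cfsg.Spor.Ly) (x : ℕ) :
    lv f (bif Nat.beq (Nat.mod x 2) 0 then Nat.add x 1 else Nat.sub x 1) = (lv f x)⁻¹ := by
  rcases Nat.even_or_odd' x with ⟨i, rfl | rfl⟩
  · rw [show Nat.beq (Nat.mod (2 * i) 2) 0 = true from by
      rw [show Nat.mod (2 * i) 2 = 0 from Nat.mul_mod_right 2 i]; rfl, cond_true]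
    show lv f (2 * i + 1) = _
    rw [lv_eq, lv_eq, if_neg (by omega), if_pos (by omega), show (2 * i + 1) / 2 = 2 * i / 2 by omega]
  · rw [show Nat.beq (Nat.mod (2 * i + 1) 2) 0 = false from by
      rw [show Nat.mod (2 * i + 1) 2 = 1 from Nat.mul_add_mod 2 i 1]; rfl, cond_false]
    show lv f (2 * i + 1 - 1) = _
    rw [lv_eq, lv_eq, if_pos (by omega), if_neg (by omega), inv_inv,
      show (2 * i + 1 - 1) / 2 = (2 * i + 1) / 2 by omega]

theorem prodw_winv (f : ℕ → Cfsg.Spor.Ly) :
    ∀ (w : List ℕ), prodw (fun x => lv f x) (winv w) = (prodw (fun x => lv f x) w)⁻¹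
  | [] => by simp [winv, prodw]
  | x :: w => by
    have ih := prodw_winv f w
    simp only [winv, prodw, List.map_cons, List.reverse_cons, List.map_append, List.prod_append,
      List.map_nil, List.prod_cons, List.prod_nil, mul_one, _root_.mul_inv_rev, lv_inv] at ih ⊢
    rw [ih]

theorem cast_mod5 (a : ℕ) : ((Nat.mod a 5 : ℕ) : ZMod 5) = (a : ZMod 5) := ZMod.natCast_mod a 5

/-- A word in the ten letters in `Ly`. -/
noncomputable def wLy (w : List ℕ) : Cfsg.Spor.Ly := prodw rl w

theorem rl_low {x : ℕ} (hx : x < 8) : rl x = gw x := by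
  have key : ∀ i, i < 4 → genLy i = gen8 i := by intro i hi; interval_cases i <;> rfl
  rw [rl, gw, show fl18 x = gl x from by rw [fl18, show Nat.blt x 16 = true from
    Nat.ble_eq_true_of_le (show x + 1 ≤ 16 by omega), cond_true], gl, map_lv, lv_eq, lv_eq,
    key (x / 2) (by omega)]

theorem xT_eq : xT = wLy xW := by
  have h := low_ok
  rw [Bool.and_eq_true] at h
  have hl : ∀ x ∈ xW, x < 8 := fun x hx => Nat.le_of_ble_eq_true (List.all_eq_true.1 h.1 x hx)
  rw [xT, xP, psi_prodw xW_low, wLy]
  simp only [prodw]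
  exact congrArg List.prod (List.map_congr_left fun x hx => (rl_low (hl x hx)).symm)

theorem coe_mat {w : List ℕ} (hw : ∀ x ∈ w, x < 10) :
    ((Rep.hom (prodw rl w) : GL (Fin 111) (ZMod 5)) : Matrix (Fin 111) (Fin 111) (ZMod 5)) =
      (w.map Rep.mat).prod := by
  rw [coe_hom_prodw hw]
  exact congrArg List.prod (List.map_congr_left fun x hx => eMat_small (hw x hx))

/-- The three generators. -/
noncomputable def gc (i : Fin 3) : Cfsg.Spor.Ly := wLy (cW.getD i.val [])

theorem cW_lt (i : Fin 3) : ∀ x ∈ cW.getD i.val [], x < 10 := by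
  intro x hx
  have h := low_ok
  rw [Bool.and_eq_true] at h
  have hi : i.val < cW.length := by have := i.isLt; simpa [cW] using this
  rw [List.getD_eq_getElem _ _ hi] at hx
  exact Nat.le_of_ble_eq_true (List.all_eq_true.1 (List.all_eq_true.1 h.2 _ (List.getElem_mem hi)) x hx)

theorem gc_commute (i : Fin 3) : xT * gc i = gc i * xT := by
  have hi : i.val < cW.length := by have := i.isLt; simpa [cW] using this
  have hmem : xW ++ cW.getD i.val [] ++ winv xW ++ winv (cW.getD i.val []) ∈ commWords := by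
    refine List.mem_map.2 ⟨cW.getD i.val [], ?_, rfl⟩
    rw [List.getD_eq_getElem _ _ hi]; exact List.getElem_mem hi
  have h : prodw rl (xW ++ cW.getD i.val [] ++ winv xW ++ winv (cW.getD i.val [])) = 1 := by
    refine hom_injective ?_
    rw [map_one]
    refine Units.ext ?_
    rw [coe_mat fun x hx =>
      Nat.le_of_ble_eq_true (List.all_eq_true.1 (List.all_eq_true.1 comm_lt _ hmem) x hx)]
    exact Rep.word_one comm_ok comm_lt hmem
  simp only [prodw, List.map_append, List.prod_append] at h
  have h1 := prodw_winv (fun i => toLy (FreeGroup.of (genLy i))) xW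
  have h2 := prodw_winv (fun i => toLy (FreeGroup.of (genLy i))) (cW.getD i.val [])
  simp only [prodw] at h1 h2
  rw [show (fun x => lv (fun i => toLy (FreeGroup.of (genLy i))) x) = rl from rfl] at h1 h2
  rw [h1, h2, mul_inv_eq_one, mul_inv_eq_iff_eq_mul] at h
  simp only [xT_eq, gc, wLy, prodw]
  unfold rl
  exact h

theorem rowWord_spec : ∀ (w : List ℕ), (∀ x ∈ w, x < 10) → ∀ v : ℕ, (∀ s < 111, LyG2.dig v s < 8) →
    LyLower.toV 111 (rowWord w v) = LyLower.toV 111 v ᵥ* (w.map Rep.mat).prod
  | [], _, v, _ => by simp [rowWord]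
  | x :: w, hw, v, hv => by
    obtain ⟨h1, h2⟩ := LyLower.toV_vmul (N := 111) (by norm_num) hv
      (dig_of_goodX (Rep.good_of_lt (hw x List.mem_cons_self)))
    show LyLower.toV 111 (force (LyLower.vmul 111 v (Rep.tabs x)) (rowWord w)) = _
    rw [force_eq, rowWord_spec w (fun y hy => hw y (List.mem_cons_of_mem x hy)) _ h2, h1,
      List.map_cons, List.prod_cons, Matrix.vecMul_vecMul]
    rfl

/-- The basis of the space as a matrix. -/
noncomputable def bM : Matrix (Fin 21) (Fin 111) (ZMod 5) :=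
  Matrix.of fun s => LyLower.toV 111 (bRows.getD s.val 0)

theorem bRow_lt (s : ℕ) (hs : s < 21) : ∀ t < 111, LyG2.dig (bRows.getD s 0) t < 8 := by
  intro t ht
  have hlen : bRows.length = 21 := rfl
  have h := List.all_eq_true.1 bRows_ok (bRows.getD s 0) (by
    rw [List.getD_eq_getElem _ _ (hlen ▸ hs)]; exact List.getElem_mem _)
  have h' := congrArg (fun v => LyG2.dig v t) (Nat.eq_of_beq_eq_true h)
  simp only [LyLower.redV, LyLower.redV_spec (List.range 111) _ t (by simpa using ht)] at h'
  omega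

theorem bSum_eq (C s t : ℕ) : bSum C s t =
    ∑ u ∈ Finset.range 21, LyG2.dig C (21 * s + u) * LyG2.dig (bRows.getD u 0) t := by
  have h : ∀ n, (Nat.rec 0 (fun u ih => Nat.add ih (Nat.mul (LyG2.dig C (Nat.add (Nat.mul 21 s) u))
      (LyG2.dig (bRows.getD u 0) t))) n : ℕ) =
      ∑ u ∈ Finset.range n, LyG2.dig C (21 * s + u) * LyG2.dig (bRows.getD u 0) t := by
    intro n
    induction n with
    | zero => rfl
    | succ n ih => rw [Finset.sum_range_succ, ← ih]; rfl
  exact h 21

theorem bM_mul {w : List ℕ} (hw : ∀ x ∈ w, x < 10) {C : ℕ} (h : ∀ m < 7, chkBasis w C (3 * m) = true) :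
    bM * (w.map Rep.mat).prod = toX 21 C * bM := by
  ext s t
  have h' := chkBasis_spec h s.isLt t.isLt
  have e := congrFun (rowWord_spec w hw _ (bRow_lt s.val s.isLt)) t
  rw [LyLower.toV] at e
  have h5 := congrArg (fun n : ℕ => (n : ZMod 5)) (Nat.eq_of_beq_eq_true h')
  simp only [cast_mod5, e, bSum_eq, Nat.cast_sum, Nat.cast_mul] at h5
  show (bM * (w.map Rep.mat).prod) s t = (toX 21 C * bM) s t
  rw [show (bM * (w.map Rep.mat).prod) s t =
    (LyLower.toV 111 (bRows.getD s.val 0) ᵥ* (w.map Rep.mat).prod) t from rfl, h5, Matrix.mul_apply,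
    ← Fin.sum_univ_eq_sum_range fun u => (LyG2.dig C (21 * s.val + u) : ZMod 5) *
      (LyG2.dig (bRows.getD u 0) t.val : ZMod 5)]
  refine Finset.sum_congr rfl fun u _ => ?_
  simp only [toX, bM, Matrix.of_apply, LyLower.toV, Nat.mul_comm 21 s.val]

theorem bM_fix : bM * (xW.map Rep.mat).prod = bM := by
  have hw : ∀ x ∈ xW, x < 10 := by decide +kernel
  ext s t
  have h' := chkFix_spec fixes s.isLt t.isLt
  have e := congrFun (rowWord_spec xW hw _ (bRow_lt s.val s.isLt)) t
  rw [LyLower.toV] at e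
  have h5 := congrArg (fun n : ℕ => (n : ZMod 5)) (Nat.eq_of_beq_eq_true h')
  simp only [cast_mod5, e] at h5
  exact h5

/-- The number of vectors. -/
abbrev Vx : Type := Fin 7128

/-- A vector. -/
noncomputable def vec (k : Vx) : Fin 111 → ZMod 5 := LyLower.toV 21 (coef k) ᵥ* bM

theorem coef_spec (k : Vx) : LyLower.redV 21 (coef k) = coef k ∧ coef k < LyG2.base ^ 21 ∧
    (k.val = 0 ∨ coef (k.val - 1) < coef k) ∧ ∀ s < 21, LyG2.dig (coef k) s < 5 := by
  have h := allR_spec 13 0 vecs_ok k.val (Nat.zero_le _) (by have := k.isLt; omega)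
  rw [okVec, show Nat.blt k.val 7128 = true from Nat.ble_eq_true_of_le k.isLt, cond_true, force_eq] at h
  simp only [Bool.and_eq_true, Bool.or_eq_true] at h
  obtain ⟨h1, h2, h3⟩ := h
  have h1 := Nat.eq_of_beq_eq_true h1
  refine ⟨h1, ?_, h3.imp Nat.eq_of_beq_eq_true Nat.le_of_ble_eq_true, fun s hs => ?_⟩
  · rw [show LyG2.base ^ 21 = 2 ^ 504 by rw [show LyG2.base = 2 ^ 24 from rfl, ← pow_mul]]
    exact Nat.le_of_ble_eq_true h2
  · have h' := congrArg (fun v => LyG2.dig v s) h1
    simp only [LyLower.redV, LyLower.redV_spec (List.range 21) _ s (by simpa using hs)] at h'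
    omega

theorem coef_lt (k : Vx) : ∀ s < 21, LyG2.dig (coef k) s < 8 := fun s hs =>
  lt_trans ((coef_spec k).2.2.2 s hs) (by norm_num)

theorem vec_pivot (s : Fin 21) :
    ∃ t : Fin 111, ∀ k : Vx, vec k t = LyLower.toV 21 (coef k) s := by
  have h := piv_ok
  simp only [chkPiv, List.all_eq_true, List.mem_range, Bool.and_eq_true] at h
  obtain ⟨hlt, hu⟩ := h s.val s.isLt
  refine ⟨⟨pivs.getD s.val 0, Nat.le_of_ble_eq_true hlt⟩, fun k => ?_⟩
  have hcol : ∀ u : Fin 21, bM u ⟨pivs.getD s.val 0, Nat.le_of_ble_eq_true hlt⟩ =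
      if u = s then 1 else 0 := by
    intro u
    have h5 := congrArg (fun n : ℕ => (n : ZMod 5)) (Nat.eq_of_beq_eq_true (hu u.val u.isLt))
    simp only [cast_mod5] at h5
    show (LyG2.dig (bRows.getD u.val 0) (pivs.getD s.val 0) : ZMod 5) = _
    rw [h5]
    by_cases hus : u = s
    · subst hus; rw [if_pos rfl, Nat.beq_refl, cond_true, Nat.cast_one]
    · rw [if_neg hus, show Nat.beq u.val s.val = false from by
        cases hb : Nat.beq u.val s.val
        · rfl
        · exact absurd (Fin.ext (Nat.eq_of_beq_eq_true hb)) hus, cond_false, Nat.cast_zero]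
  simp only [vec, Matrix.vecMul, dotProduct, hcol, mul_ite, mul_one, mul_zero, Finset.sum_ite_eq',
    Finset.mem_univ, if_true]

theorem vec_injective : Function.Injective vec := by
  intro k l h
  have hd : ∀ s < 21, LyG2.dig (coef k) s = LyG2.dig (coef l) s := by
    intro s hs
    obtain ⟨t, ht⟩ := vec_pivot ⟨s, hs⟩
    have e : LyLower.toV 21 (coef k) ⟨s, hs⟩ = LyLower.toV 21 (coef l) ⟨s, hs⟩ := by
      rw [← ht k, ← ht l, h]
    have := (ZMod.natCast_eq_natCast_iff' _ _ _).1 e
    rwa [Nat.mod_eq_of_lt ((coef_spec k).2.2.2 s hs), Nat.mod_eq_of_lt ((coef_spec l).2.2.2 s hs)]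
      at this
  have e : coef k = coef l := by
    rw [← pack_dig 21 _ (coef_spec k).2.1, ← pack_dig 21 _ (coef_spec l).2.1]
    exact Finset.sum_congr rfl fun s hs => by rw [hd s (Finset.mem_range.1 hs)]
  have hmono : StrictMono fun k : Vx => coef k := by
    intro a b hab
    obtain ⟨a, ha⟩ := a
    obtain ⟨b, hb⟩ := b
    have hab' : a < b := hab
    show coef a < coef b
    induction b with
    | zero => exact absurd hab' (Nat.not_lt_zero a)
    | succ b ih =>
      have h1 := ((coef_spec ⟨b + 1, hb⟩).2.2.1).resolve_left (Nat.succ_ne_zero b)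
      rw [show (⟨b + 1, hb⟩ : Vx).val - 1 = b from rfl] at h1
      rcases Nat.lt_succ_iff_lt_or_eq.1 hab' with h' | h'
      · exact lt_trans (ih (by omega) h' h') h1
      · subst h'; exact h1
  exact hmono.injective e

/-- A point lies in a set. -/
def InSet (k : Vx) (p : Fin 275) : Prop := Nat.testBit (mask k) p = true

theorem list_of_inSet {k : Vx} {p : Fin 275} (h : InSet k p) : ∃ i < 50, pointAt (listOf k) i = p.val := by
  have hk := allR_spec 13 0 masks_ok k.val (Nat.zero_le _) (by have := k.isLt; omega)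
  rw [okMask, show Nat.blt k.val 7128 = true from Nat.ble_eq_true_of_le k.isLt, cond_true, force_eq] at hk
  exact exists_of_orPts _ 50 p.val (by rw [Nat.eq_of_beq_eq_true hk]; exact h)

theorem eq_of_inSet {p q : Fin 275} (h : ∀ k, InSet k p → InSet k q) : q = p := by
  have hp := List.all_eq_true.1 points_ok p.val (List.mem_range.2 p.isLt)
  rw [okPoint, Bool.and_eq_true, List.all_eq_true] at hp
  obtain ⟨h1, h2⟩ := hp
  have key : ∀ l : List ℕ, (∀ a ∈ l, a ∈ List.range 3) → Nat.testBit (l.foldr
      (fun a m => bif Nat.beq (wit p a) 0 then m else Nat.land (mask (Nat.sub (wit p a) 1)) m)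
      (2 ^ 275 - 1)) q.val = true := by
    intro l hl
    induction l with
    | nil => rw [List.foldr_nil, Nat.testBit_two_pow_sub_one, decide_eq_true_eq]; exact q.isLt
    | cons a l ih =>
      rw [List.foldr_cons]
      cases h0 : Nat.beq (wit p a) 0
      · rw [cond_false]
        have ha := h1 a (hl a List.mem_cons_self)
        rw [h0, Bool.false_or, Bool.and_eq_true, hasBit_iff] at ha
        show Nat.testBit (mask (wit p a - 1) &&& _) q.val = true
        rw [Nat.testBit_and, Bool.and_eq_true]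
        exact ⟨h ⟨wit p a - 1, Nat.le_of_ble_eq_true ha.1⟩ ha.2,
          ih fun b hb => hl b (List.mem_cons_of_mem a hb)⟩
      · rw [cond_true]; exact ih fun b hb => hl b (List.mem_cons_of_mem a hb)
  have := key (List.range 3) fun a ha => ha
  rw [Nat.eq_of_beq_eq_true h2, show Nat.shiftLeft 1 p.val = 2 ^ p.val from Nat.one_shiftLeft p.val,
    Nat.testBit_two_pow, decide_eq_true_eq] at this
  exact (Fin.ext this).symm

theorem tab_spec (i : Fin 3) (p : Fin 275) : GraphPerm.tget (sTab i) p < 275 ∧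
    GraphPerm.tget (sInv i) p < 275 ∧
    GraphPerm.tget (sInv i) (GraphPerm.tget (sTab i) p) = p ∧
    GraphPerm.tget (sTab i) (GraphPerm.tget (sInv i) p) = p := by
  have h := List.all_eq_true.1 (List.all_eq_true.1 tabs_ok i.val (List.mem_range.2 i.isLt)) p.val
    (List.mem_range.2 p.isLt)
  simp only [Bool.and_eq_true] at h
  exact ⟨Nat.le_of_ble_eq_true h.1, Nat.le_of_ble_eq_true h.2.1, Nat.eq_of_beq_eq_true h.2.2.1,
    Nat.eq_of_beq_eq_true h.2.2.2⟩

/-- The permutation of a generator. -/
noncomputable def sP (i : Fin 3) : Perm (Fin 275) where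
  toFun p := ⟨GraphPerm.tget (sTab i) p, (tab_spec i p).1⟩
  invFun p := ⟨GraphPerm.tget (sInv i) p, (tab_spec i p).2.1⟩
  left_inv p := Fin.ext (tab_spec i p).2.2.1
  right_inv p := Fin.ext (tab_spec i p).2.2.2

/-- A pair permutes the vectors, and the sets with them. -/
def Good (z : Cfsg.Spor.Ly × Perm (Fin 275)) : Prop :=
  ∃ π : Perm Vx, (∀ k, vec k ᵥ* (↑(Rep.hom z.1⁻¹) : Matrix (Fin 111) (Fin 111) (ZMod 5)) = vec (π k)) ∧
    ∀ k p, InSet k p → InSet (π k) (z.2 p)

theorem good_one : Good 1 := ⟨1, fun k => by simp, fun _ _ h => h⟩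

theorem good_mul {a b : Cfsg.Spor.Ly × Perm (Fin 275)} (ha : Good a) (hb : Good b) : Good (a * b) := by
  obtain ⟨π, h1, h2⟩ := ha
  obtain ⟨ρ, h3, h4⟩ := hb
  refine ⟨π * ρ, fun k => ?_, fun k p h => h2 _ _ (h4 k p h)⟩
  rw [Prod.fst_mul, _root_.mul_inv_rev, map_mul, Units.val_mul, ← Matrix.vecMul_vecMul, h3, h1]
  rfl

theorem coe_wLy {w : List ℕ} (hw : ∀ x ∈ w, x < 10) :
    ((Rep.hom (wLy w) : GL (Fin 111) (ZMod 5)) : Matrix (Fin 111) (Fin 111) (ZMod 5)) =
      (w.map Rep.mat).prod := by
  rw [wLy, coe_mat hw]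

theorem im_spec (i : Fin 3) (k : Vx) : im i k < 7128 ∧
    LyLower.vmul 21 (coef k) (cMat i) = coef (im i k) := by
  have h : chkIm i (1024 * (k.val / 1024)) = true := by
    have hb : k.val / 1024 < 8 := by have := k.isLt; omega
    fin_cases i <;> [exact im0 _ hb; exact im1 _ hb; exact im2 _ hb]
  have hR := LyLower.rowsK_sound 21 (cMat i) 21 [] _ h
  rw [List.append_nil] at hR
  have h' := allR_spec 10 _ hR k.val (by omega) (by omega)
  rw [okIm, show Nat.blt k.val 7128 = true from Nat.ble_eq_true_of_le k.isLt, cond_true, force_eq,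
    Bool.and_eq_true, LyLower.vmulR_eq] at h'
  exact ⟨Nat.le_of_ble_eq_true h'.1, Nat.eq_of_beq_eq_true h'.2⟩

theorem good_gen (i : Fin 3) : Good ((gc i)⁻¹, sP i) := by
  have hc : goodX 21 (cMat i) = true := List.all_eq_true.1 cMats_ok i.val (List.mem_range.2 i.isLt)
  have hb : ∀ m < 7, chkBasis (cW.getD i.val []) (cMat i) (3 * m) = true := by
    fin_cases i <;> [exact basis0; exact basis1; exact basis2]
  let f : Vx → Vx := fun k => ⟨im i k, (im_spec i k).1⟩
  have hv : ∀ k, vec k ᵥ* (↑(Rep.hom (gc i)) : Matrix (Fin 111) (Fin 111) (ZMod 5)) = vec (f k) := by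
    intro k
    rw [gc, coe_wLy (cW_lt i), vec, Matrix.vecMul_vecMul, bM_mul (cW_lt i) hb, ← Matrix.vecMul_vecMul,
      ← (LyLower.toV_vmul (N := 21) (by norm_num) (coef_lt k) (dig_of_goodX hc)).1, (im_spec i k).2]
    rfl
  have hf : Function.Injective f := by
    intro a b h
    have e : vec a ᵥ* (↑(Rep.hom (gc i)) : Matrix (Fin 111) (Fin 111) (ZMod 5)) =
        vec b ᵥ* (↑(Rep.hom (gc i)) : Matrix (Fin 111) (Fin 111) (ZMod 5)) := by rw [hv, hv, h]
    have e' := congrArg
      (fun u => u ᵥ* (↑(Rep.hom (gc i))⁻¹ : Matrix (Fin 111) (Fin 111) (ZMod 5))) e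
    simp only [Matrix.vecMul_vecMul, Units.mul_inv, Matrix.vecMul_one] at e'
    exact vec_injective e'
  refine ⟨Equiv.ofBijective f (Finite.injective_iff_bijective.1 hf), fun k => ?_, fun k p hp => ?_⟩
  · rw [inv_inv]; exact hv k
  · obtain ⟨n, hn, e⟩ := list_of_inSet hp
    have hs : allR (okSet i (sTab i)) 13 0 = true := by
      fin_cases i <;> [exact sets0_ok; exact sets1_ok; exact sets2_ok]
    have h := allR_spec 13 0 hs k.val (Nat.zero_le _) (by have := k.isLt; omega)
    rw [okSet, show Nat.blt k.val 7128 = true from Nat.ble_eq_true_of_le k.isLt, cond_true, force_eq,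
      force_eq] at h
    have h' := mapsPts_spec _ _ _ 50 h n hn
    rw [e] at h'
    exact h'

theorem good_x : Good (xT, 1) := by
  refine ⟨1, fun k => ?_, fun k p h => h⟩
  have hw : ∀ x ∈ xW, x < 10 := by decide +kernel
  have h : vec k ᵥ* (↑(Rep.hom xT) : Matrix (Fin 111) (Fin 111) (ZMod 5)) = vec k := by
    rw [xT_eq, coe_wLy hw, vec, Matrix.vecMul_vecMul, bM_fix]
  conv_lhs => rw [← h]
  rw [Matrix.vecMul_vecMul, ← Units.val_mul, ← map_mul, mul_inv_cancel, map_one, Units.val_one,
    Matrix.vecMul_one]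
  rfl

/-- The generators of the pairs. -/
def pairs : Set (Cfsg.Spor.Ly × Perm (Fin 275)) :=
  insert (xT, 1) (Set.range fun i : Fin 3 => ((gc i)⁻¹, sP i))

theorem good_of_mem {z : Cfsg.Spor.Ly × Perm (Fin 275)} (hz : z ∈ closure pairs) : Good z := by
  induction hz using closure_induction with
  | mem y hy =>
    rcases hy with rfl | ⟨i, rfl⟩
    · exact good_x
    · exact good_gen i
  | one => exact good_one
  | mul a b _ _ ha hb => exact good_mul ha hb
  | inv a _ ha =>
    have hpow : ∀ n : ℕ, Good (a ^ n) := by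
      intro n
      induction n with
      | zero => rw [pow_zero]; exact good_one
      | succ n ih => rw [pow_succ]; exact good_mul ih ha
    have e : a⁻¹ = a ^ (orderOf a - 1) := by
      refine inv_eq_of_mul_eq_one_right ?_
      rw [← pow_succ', Nat.sub_add_cancel (orderOf_pos a), pow_orderOf_eq_one]
    rw [e]; exact hpow _

theorem eq_one_of_fst {z : Cfsg.Spor.Ly × Perm (Fin 275)} (hz : z ∈ closure pairs) (h : z.1 = 1) :
    z = 1 := by
  obtain ⟨π, h1, h2⟩ := good_of_mem hz
  have hπ : ∀ k, π k = k := fun k => vec_injective (by rw [← h1 k, h]; simp)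
  refine Prod.ext h (Equiv.ext fun p => ?_)
  rw [Prod.snd_one, Equiv.Perm.one_apply]
  exact eq_of_inSet fun k hk => by have := h2 k p hk; rwa [hπ] at this

theorem orderOf_xT : orderOf xT = 3 := by
  refine orderOf_eq_prime (p := 3) (hp := ⟨by norm_num⟩) ?_ ?_
  · rw [xT, ← map_pow, pow_succ, pow_two, xP_cube, map_one]
  · exact fun h => xP_ne_one (psi_injective (h.trans (map_one psi).symm))

theorem isSimple_McL : IsSimpleGroup Cfsg.Spor.McL :=
  haveI : IsSimpleGroup McLRec.pairStab := Leech.mcl_simple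
  (MulEquiv.ofBijective _ McLRec.toMcL_bijective).symm.isSimpleGroup

/-- The centraliser of the element of order three is a triple cover of a group of McLaughlin type. -/
theorem main : orderOf xT = 3 ∧
    Nat.card (center (centralizer ({xT} : Set Cfsg.Spor.Ly))) = 3 ∧
    Cfsg.IsMcL (centralizer ({xT} : Set Cfsg.Spor.Ly) ⧸
      center (centralizer ({xT} : Set Cfsg.Spor.Ly))) := by
  classical
  set C := centralizer ({xT} : Set Cfsg.Spor.Ly) with hCdef
  set D := closure pairs with hDdef
  let p1 : D →* Cfsg.Spor.Ly := (MonoidHom.fst _ _).comp D.subtype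
  let p2 : D →* Perm (Fin 275) := (MonoidHom.snd _ _).comp D.subtype
  have hp1 : Function.Injective p1 := (injective_iff_map_eq_one p1).2 fun z hz =>
    Subtype.ext (eq_one_of_fst z.2 hz)
  have hrange : p1.range ≤ C := by
    rintro _ ⟨z, rfl⟩
    have : z.1 ∈ C.comap (MonoidHom.fst Cfsg.Spor.Ly (Perm (Fin 275))) := by
      refine (closure_le _).2 ?_ z.2
      rintro y (rfl | ⟨i, rfl⟩)
      · exact mem_centralizer_iff.2 fun h hh => by rw [Set.mem_singleton_iff.1 hh]; rfl
      · exact C.inv_mem (mem_centralizer_iff.2 fun h hh => by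
          rw [Set.mem_singleton_iff.1 hh]; exact gc_commute i)
    exact this
  have hxD : (xT, (1 : Perm (Fin 275))) ∈ D := subset_closure (Set.mem_insert _ _)
  let xd : D := ⟨(xT, 1), hxD⟩
  have hxord : orderOf xd = 3 := by
    rw [← orderOf_injective p1 hp1 xd]; exact orderOf_xT
  have hxker : xd ∈ p2.ker := rfl
  have h3 : 3 ≤ Nat.card p2.ker := by
    rw [← hxord, ← Nat.card_zpowers]
    exact card_le_of_le (zpowers_le.2 hxker)
  obtain ⟨K, ⟨eK⟩, hKcard, -, hKgens⟩ := GraphMult.McL.exists_model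
  have hgens : ∀ t ∈ GraphPerm.McLModel.data.gens, GraphPerm.InTab p2.range t := by
    have hs : ∀ i : Fin 3, sP i ∈ p2.range := fun i =>
      ⟨⟨((gc i)⁻¹, sP i), subset_closure (Set.mem_insert_of_mem _ ⟨i, rfl⟩)⟩, rfl⟩
    let xs : ℕ → Perm (Fin 275) := fun a => if h : a < 3 then sP ⟨a, h⟩ else
      if h' : a < 6 then (sP ⟨a - 3, by omega⟩)⁻¹ else 1
    have hxs : GraphPerm.HasTabs tabs6 xs := by
      intro a ha
      have ha' : a < 6 := by simpa [tabs6] using ha
      interval_cases a
      all_goals intro p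
      all_goals rfl
    have hxmem : ∀ a, xs a ∈ p2.range := by
      intro a
      simp only [xs]
      split
      · exact hs _
      · split
        · exact inv_mem (hs _)
        · exact one_mem _
    have hword : ∀ t w, okWord t w = true → GraphPerm.InTab p2.range t := by
      intro t w h
      rw [okWord, Bool.and_eq_true, List.all_eq_true, List.all_eq_true] at h
      refine ⟨GraphPerm.wval xs w, ?_, fun p => ?_⟩
      · refine list_prod_mem fun y hy => ?_
        obtain ⟨a, -, rfl⟩ := List.mem_map.1 hy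
        exact hxmem a
      · rw [GraphPerm.wImg_eq hxs (fun a ha => by
          have := Nat.le_of_ble_eq_true (h.1 a ha); simpa [tabs6] using this)]
        exact Nat.eq_of_beq_eq_true (h.2 p.val (List.mem_range.2 p.isLt))
    have hw := words_ok
    rw [Bool.and_eq_true, Bool.and_eq_true] at hw
    intro t ht
    simp only [GraphPerm.RData.gens, List.mem_cons, List.not_mem_nil, or_false] at ht
    rcases ht with rfl | rfl | rfl
    exacts [hword _ _ hw.1, hword _ _ hw.2.1, hword _ _ hw.2.2]
  have hinf : ∀ t ∈ GraphPerm.McLModel.data.gens, GraphPerm.InTab (p2.range ⊓ K) t := by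
    intro t ht
    obtain ⟨σ, hσ, r⟩ := hgens t ht
    obtain ⟨τ, hτ, r'⟩ := hKgens t ht
    exact ⟨σ, ⟨hσ, r.unique r' ▸ hτ⟩, r⟩
  have hlow : 898128000 ≤ Nat.card (p2.range ⊓ K : Subgroup (Perm (Fin 275))) :=
    le_trans (le_of_eq (show 898128000 =
      GraphPerm.McLModel.data.p * GraphPerm.McLModel.data.N by decide +kernel))
      (GraphMult.inTab_strong GraphPerm.McLModel.normOK GraphPerm.McLModel.orderOK hinf)
  have hrcard : Nat.card (p2.range ⊓ K : Subgroup (Perm (Fin 275))) ≤ Nat.card p2.range :=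
    card_le_of_le inf_le_left
  have hsplit : Nat.card D = Nat.card p2.ker * Nat.card p2.range := by
    rw [← Subgroup.index_ker, mul_comm, Subgroup.index_mul_card]
  have hDle : Nat.card D ≤ 2694384000 := by
    refine le_trans ?_ card_le
    rw [Nat.card_congr (MonoidHom.ofInjective hp1).toEquiv]
    exact card_le_of_le hrange
  have hbound : 3 * Nat.card p2.range ≤ Nat.card D := by
    rw [hsplit]; exact Nat.mul_le_mul_right _ h3
  have hr : Nat.card p2.range = 898128000 := by omega
  have hk3 : Nat.card p2.ker = 3 := by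
    have : Nat.card p2.ker * 898128000 ≤ 3 * 898128000 := by rw [← hr, ← hsplit, hr]; omega
    have := Nat.le_of_mul_le_mul_right this (by norm_num)
    omega
  have hD : Nat.card D = 2694384000 := by rw [hsplit, hr, hk3]
  have hrC : p1.range = C := eq_of_le_of_card_ge hrange (by
    rw [← Nat.card_congr (MonoidHom.ofInjective hp1).toEquiv, hD]; exact card_le)
  have hRK : p2.range = K := by
    have e1 : p2.range ⊓ K = p2.range := eq_of_le_of_card_ge inf_le_left (by omega)
    exact eq_of_le_of_card_ge (inf_eq_left.1 e1) (by omega)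
  let e : D ≃* C := (MonoidHom.ofInjective hp1).trans (MulEquiv.subgroupCongr hrC)
  haveI hKsimple : IsSimpleGroup p2.range := by
    haveI := isSimple_McL
    exact (eK.trans (MulEquiv.subgroupCongr hRK.symm)).symm.isSimpleGroup
  let q : C →* p2.range := p2.rangeRestrict.comp e.symm.toMonoidHom
  have hq : Function.Surjective q := p2.rangeRestrict_surjective.comp e.symm.surjective
  have hqker : Nat.card q.ker = 3 := by
    rw [show q.ker = p2.ker.map e.toMonoidHom from ?_, card_map_of_injective (f := e.toMonoidHom)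
      e.injective, hk3]
    ext c
    rw [MonoidHom.mem_ker, mem_map_equiv, MonoidHom.mem_ker]
    show p2.rangeRestrict (e.symm c) = 1 ↔ _
    rw [Subtype.ext_iff]
    rfl
  have hcle : center C ≤ q.ker := by
    intro c hc
    have hcen : q c ∈ center p2.range := mem_center_iff.2 fun y => by
      obtain ⟨y, rfl⟩ := hq y
      rw [← map_mul, ← map_mul, mem_center_iff.1 hc y]
    rcases (inferInstance : (center p2.range).Normal).eq_bot_or_eq_top with h | h
    · rw [h, mem_bot] at hcen; exact hcen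
    · exfalso
      letI : CommGroup p2.range :=
        { (inferInstance : Group p2.range) with
          mul_comm := fun a b => (mem_center_iff.1 (h ▸ mem_top b) a) }
      have hp := IsSimpleGroup.prime_card (α := p2.range)
      rw [hr] at hp
      norm_num at hp
  have hxC : xT ∈ C := mem_centralizer_iff.2 fun h hh => by rw [Set.mem_singleton_iff.1 hh]
  have hxc : (⟨xT, hxC⟩ : C) ∈ center C := mem_center_iff.2 fun y =>
    Subtype.ext (mem_centralizer_iff.1 y.2 xT rfl).symm
  have hc3 : 3 ≤ Nat.card (center C) := by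
    rw [← orderOf_xT, show xT = C.subtype ⟨xT, hxC⟩ from rfl,
      orderOf_injective C.subtype C.subtype_injective, ← Nat.card_zpowers]
    exact card_le_of_le (zpowers_le.2 hxc)
  have heq : center C = q.ker := eq_of_le_of_card_ge hcle (by omega)
  refine ⟨orderOf_xT, by rw [heq, hqker], ?_⟩
  have E : (C ⧸ center C) ≃* p2.range :=
    (QuotientGroup.quotientMulEquivOfEq heq).trans (QuotientGroup.quotientKerEquivOfSurjective q hq)
  exact ⟨E.isSimpleGroup, (Nat.card_congr E.toEquiv).trans hr⟩

end CfsgLib.LyThree
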