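import Cfsg.Agent.LyThree.Data.Perms
import Cfsg.Agent.LyThree.Data.Vectors
import Cfsg.Agent.LyThree.Data.Sets
import Cfsg.Agent.LyLower.Program
import Cfsg.Agent.LyG2.Rep.Hom
import Cfsg.Agent.LyCert.Table
import Cfsg.Agent.GraphPerm.Table

/-!
The checker of the action on 7128 vectors of the 21-dimensional fixed space of the element of order
three and on the 7128 sets of fifty of 275 points.
-/

set_option autoImplicit false
set_option maxRecDepth 100000

namespace CfsgLib.LyThree

open CfsgLib.CosetEnum CfsgLib.LyG2 CfsgLib.LyLower CfsgLib.LyCert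

/-- Coefficients stored in three bits each. -/
def unp (n v : ℕ) : ℕ :=
  Nat.rec (fun _ => 0)
    (fun _ ih v => Nat.add (Nat.land v 7) (Nat.mul 16777216 (ih (Nat.shiftRight v 3)))) n v

/-- The coefficients of a vector. -/
noncomputable def coef (k : ℕ) : ℕ := unp 21 (look vecTab 128 63 9223372036854775807 k)

/-- The image of a vector. -/
noncomputable def im (i k : ℕ) : ℕ :=
  bif Nat.beq i 0 then look imTab0 256 13 8191 k
  else bif Nat.beq i 1 then look imTab1 256 13 8191 k else look imTab2 256 13 8191 k

/-- The matrix of a generator on coefficients. -/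
noncomputable def cMat (i : ℕ) : ℕ :=
  bif Nat.beq i 0 then cMat0 else bif Nat.beq i 1 then cMat1 else cMat2

/-- The table of a generator. -/
noncomputable def sTab (i : ℕ) : ℕ :=
  bif Nat.beq i 0 then sTab0 else bif Nat.beq i 1 then sTab1 else sTab2

/-- The inverse table of a generator. -/
noncomputable def sInv (i : ℕ) : ℕ :=
  bif Nat.beq i 0 then sInv0 else bif Nat.beq i 1 then sInv1 else sInv2

/-- A vector of coefficients is reduced and comes after the one before. -/
noncomputable def okVec (k : ℕ) : Bool :=
  bif Nat.blt k 7128 then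
    force (coef k) fun v => Nat.beq (redV 21 v) v && (Nat.blt v (Nat.pow 2 504) &&
      (Nat.beq k 0 || Nat.blt (coef (Nat.sub k 1)) v))
  else true

/-- The image of a vector of coefficients. -/
noncomputable def okIm (i : ℕ) (R : List ℕ) (k : ℕ) : Bool :=
  bif Nat.blt k 7128 then
    force (im i k) fun j => Nat.blt j 7128 && Nat.beq (vmulR 21 (coef k) R) (coef j)
  else true

/-- The check of a block of images under a generator. -/
noncomputable def chkIm (i b : ℕ) : Bool :=
  rowsK 21 (cMat i) 21 [] fun R => allR (okIm i R) 10 b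

/-- A row times a word. -/
noncomputable def rowWord (w : List ℕ) (v : ℕ) : ℕ :=
  List.rec (fun v => v) (fun x _ ih v => force (vmul 111 v (Rep.tabs x)) ih) w v

/-- An entry of a product with the basis. -/
noncomputable def bSum (C s t : ℕ) : ℕ :=
  Nat.rec 0 (fun u ih => Nat.add ih (Nat.mul (dig C (Nat.add (Nat.mul 21 s) u)) (dig (bRows.getD u 0) t))) 21

/-- A word acts on three rows of the basis by a matrix on coefficients. -/
noncomputable def chkBasis (w : List ℕ) (C lo : ℕ) : Bool :=
  (List.range 3).all fun a => force (Nat.add lo a) fun s => force (rowWord w (bRows.getD s 0)) fun r =>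
    (List.range 111).all fun t => Nat.beq (Nat.mod (dig r t) 5) (Nat.mod (bSum C s t) 5)

/-- A word fixes three rows of the basis. -/
noncomputable def chkFix (w : List ℕ) (lo : ℕ) : Bool :=
  (List.range 3).all fun a => force (Nat.add lo a) fun s => force (rowWord w (bRows.getD s 0)) fun r =>
    (List.range 111).all fun t => Nat.beq (Nat.mod (dig r t) 5) (Nat.mod (dig (bRows.getD s 0) t) 5)

theorem chkBasis_spec {w : List ℕ} {C : ℕ} (h : ∀ m < 7, chkBasis w C (3 * m) = true) {s t : ℕ}
    (hs : s < 21) (ht : t < 111) :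
    Nat.beq (Nat.mod (dig (rowWord w (bRows.getD s 0)) t) 5) (Nat.mod (bSum C s t) 5) = true := by
  have h' := h (s / 3) (by omega)
  simp only [chkBasis, List.all_eq_true, List.mem_range, force_eq] at h'
  have h'' := h' (s % 3) (Nat.mod_lt _ (by norm_num)) t ht
  simp only [Nat.add_eq, Nat.div_add_mod] at h''
  exact h''

theorem chkFix_spec {w : List ℕ} (h : ∀ m < 7, chkFix w (3 * m) = true) {s t : ℕ}
    (hs : s < 21) (ht : t < 111) :
    Nat.beq (Nat.mod (dig (rowWord w (bRows.getD s 0)) t) 5)
      (Nat.mod (dig (bRows.getD s 0) t) 5) = true := by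
  have h' := h (s / 3) (by omega)
  simp only [chkFix, List.all_eq_true, List.mem_range, force_eq] at h'
  have h'' := h' (s % 3) (Nat.mod_lt _ (by norm_num)) t ht
  simp only [Nat.add_eq, Nat.div_add_mod] at h''
  exact h''

theorem allR_join {f : ℕ → Bool} {d lo hi : ℕ} (e : lo + 2 ^ d = hi) (h1 : allR f d lo = true)
    (h2 : allR f d hi = true) : allR f (d + 1) lo = true := by
  subst e
  show (allR f d lo && allR f d (lo + 2 ^ d)) = true
  rw [h1, h2]; rfl

theorem allR_eight {f : ℕ → Bool} (h : ∀ b < 8, allR f 10 (1024 * b) = true) : allR f 13 0 = true :=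
  allR_join (d := 12) (hi := 4096) (by norm_num)
    (allR_join (d := 11) (hi := 2048) (by norm_num)
      (allR_join (d := 10) (hi := 1024) (by norm_num) (h 0 (by norm_num)) (h 1 (by norm_num)))
      (allR_join (d := 10) (hi := 3072) (by norm_num) (h 2 (by norm_num)) (h 3 (by norm_num))))
    (allR_join (d := 11) (hi := 6144) (by norm_num)
      (allR_join (d := 10) (hi := 5120) (by norm_num) (h 4 (by norm_num)) (h 5 (by norm_num)))
      (allR_join (d := 10) (hi := 7168) (by norm_num) (h 6 (by norm_num)) (h 7 (by norm_num))))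

/-- The pivots pick out the coefficients. -/
noncomputable def chkPiv : Bool :=
  (List.range 21).all fun s => Nat.blt (pivs.getD s 0) 111 && (List.range 21).all fun u =>
    Nat.beq (Nat.mod (dig (bRows.getD u 0) (pivs.getD s 0)) 5) (bif Nat.beq u s then 1 else 0)

/-- The bits of a set. -/
noncomputable def mask (k : ℕ) : ℕ :=
  look maskTab 64 275 60708402882054033466233184588234965832575213720379360039119137804340758912662765567 k

/-- The points of a set. -/
noncomputable def listOf (k : ℕ) : ℕ := look listTab 32 450 (2 ^ 450 - 1) k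

/-- A point of a set. -/
def pointAt (l i : ℕ) : ℕ := Nat.land (Nat.shiftRight l (Nat.mul 9 i)) 511

/-- The bits of the first points. -/
def orPts (l n : ℕ) : ℕ :=
  Nat.rec 0 (fun i ih => Nat.lor ih (Nat.shiftLeft 1 (pointAt l i))) n

theorem exists_of_orPts (l : ℕ) : ∀ (n p : ℕ), Nat.testBit (orPts l n) p = true →
    ∃ i < n, pointAt l i = p := by
  intro n
  induction n with
  | zero => intro p h; exact absurd h (by simp [orPts])
  | succ n ih =>
    intro p h
    rw [show orPts l (n + 1) = orPts l n ||| (1 <<< pointAt l n) from rfl, Nat.testBit_or,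
      Bool.or_eq_true] at h
    rcases h with h | h
    · obtain ⟨i, hi, e⟩ := ih p h; exact ⟨i, Nat.lt_succ_of_lt hi, e⟩
    · rw [Nat.one_shiftLeft, Nat.testBit_two_pow, decide_eq_true_eq] at h
      exact ⟨n, Nat.lt_succ_self n, h⟩

/-- The bits of a set are those of its points. -/
noncomputable def okMask (k : ℕ) : Bool :=
  bif Nat.blt k 7128 then force (listOf k) fun l => Nat.beq (orPts l 50) (mask k) else true

/-- A bit is set. -/
def hasBit (m p : ℕ) : Bool := Nat.beq (Nat.land (Nat.shiftRight m p) 1) 1

theorem hasBit_iff {m p : ℕ} : hasBit m p = true ↔ Nat.testBit m p = true := by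
  show Nat.beq ((m >>> p) &&& 1) 1 = true ↔ _
  rw [Nat.testBit_eq_decide_div_mod_eq, decide_eq_true_eq, Nat.shiftRight_eq_div_pow,
    Nat.and_one_is_mod]
  exact ⟨Nat.eq_of_beq_eq_true, fun h => by rw [h]; exact Nat.beq_refl 1⟩

/-- All points of a set are moved into a set. -/
def mapsPts (t m l n : ℕ) : Bool :=
  Nat.rec true (fun i ih => ih && hasBit m (Nat.land (Nat.shiftRight t (Nat.mul 9 (pointAt l i))) 511)) n

theorem mapsPts_spec (t m l : ℕ) : ∀ n, mapsPts t m l n = true → ∀ i < n,
    Nat.testBit m (GraphPerm.tget t (pointAt l i)) = true := by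
  intro n
  induction n with
  | zero => intro _ i hi; exact absurd hi (Nat.not_lt_zero i)
  | succ n ih =>
    intro h i hi
    have h' : (mapsPts t m l n && hasBit m ((t >>> (9 * pointAt l n)) &&& 511)) = true := h
    rw [Bool.and_eq_true, hasBit_iff] at h'
    rcases Nat.lt_succ_iff_lt_or_eq.1 hi with hi | rfl
    · exact ih h'.1 i hi
    · rw [GraphPerm.tget, show (512 : ℕ) = 2 ^ 9 from rfl, ← Nat.and_two_pow_sub_one_eq_mod]
      exact h'.2

/-- A generator moves a set into its image. -/
noncomputable def okSet (i : ℕ) (t : ℕ) (k : ℕ) : Bool :=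
  bif Nat.blt k 7128 then
    force (listOf k) fun l => force (mask (im i k)) fun m => mapsPts t m l 50
  else true

/-- The witnesses for a point. -/
noncomputable def wit (p a : ℕ) : ℕ :=
  force (look witTab 128 39 549755813887 p) fun v => Nat.land (Nat.shiftRight v (Nat.mul 13 a)) 8191

/-- The sets containing a point meet only in it. -/
noncomputable def okPoint (p : ℕ) : Bool :=
  (List.range 3).all (fun a => Nat.beq (wit p a) 0 ||
      (Nat.blt (Nat.sub (wit p a) 1) 7128 && hasBit (mask (Nat.sub (wit p a) 1)) p)) &&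
    Nat.beq ((List.range 3).foldr (fun a m => bif Nat.beq (wit p a) 0 then m
      else Nat.land (mask (Nat.sub (wit p a) 1)) m) (2 ^ 275 - 1)) (Nat.shiftLeft 1 p)

/-- Two tables are inverse. -/
noncomputable def okTab (i : ℕ) : Bool :=
  (List.range 275).all fun p => Nat.blt (GraphPerm.tget (sTab i) p) 275 &&
    (Nat.blt (GraphPerm.tget (sInv i) p) 275 &&
      (Nat.beq (GraphPerm.tget (sInv i) (GraphPerm.tget (sTab i) p)) p &&
        Nat.beq (GraphPerm.tget (sTab i) (GraphPerm.tget (sInv i) p)) p))

/-- The tables of the generators and their inverses. -/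
noncomputable def tabs6 : List ℕ := [sTab 0, sTab 1, sTab 2, sInv 0, sInv 1, sInv 2]

/-- A table is that of a word in the generators. -/
noncomputable def okWord (t : ℕ) (w : List ℕ) : Bool :=
  w.all (fun a => Nat.blt a 6) &&
    (List.range 275).all fun p => Nat.beq (GraphPerm.wImg tabs6 w p) (GraphPerm.tget t p)

end CfsgLib.LyThree
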