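import Cfsg.Agent.LyThree.Model
import Mathlib.Tactic.IntervalCases

/-! Kernel checks: the vectors and their images. -/

set_option autoImplicit false
set_option maxRecDepth 100000
set_option Elab.async false

namespace CfsgLib.LyThree

open CfsgLib.CosetEnum CfsgLib.LyG2 CfsgLib.LyLower

theorem vecs_0 : allR okVec 10 0 = true := by decide +kernel
theorem vecs_1 : allR okVec 10 1024 = true := by decide +kernel
theorem vecs_2 : allR okVec 10 2048 = true := by decide +kernel
theorem vecs_3 : allR okVec 10 3072 = true := by decide +kernel
theorem vecs_4 : allR okVec 10 4096 = true := by decide +kernel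
theorem vecs_5 : allR okVec 10 5120 = true := by decide +kernel
theorem vecs_6 : allR okVec 10 6144 = true := by decide +kernel
theorem vecs_7 : allR okVec 10 7168 = true := by decide +kernel

theorem vecs : ∀ b < 8, allR okVec 10 (1024 * b) = true := by
  intro b h
  interval_cases b
  exacts [vecs_0, vecs_1, vecs_2, vecs_3, vecs_4, vecs_5, vecs_6, vecs_7]

theorem vecs_ok : allR okVec 13 0 = true := allR_eight vecs

theorem im0_0 : chkIm 0 0 = true := by decide +kernel
theorem im0_1 : chkIm 0 1024 = true := by decide +kernel
theorem im0_2 : chkIm 0 2048 = true := by decide +kernel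
theorem im0_3 : chkIm 0 3072 = true := by decide +kernel
theorem im0_4 : chkIm 0 4096 = true := by decide +kernel
theorem im0_5 : chkIm 0 5120 = true := by decide +kernel
theorem im0_6 : chkIm 0 6144 = true := by decide +kernel
theorem im0_7 : chkIm 0 7168 = true := by decide +kernel

theorem im0 : ∀ b < 8, chkIm 0 (1024 * b) = true := by
  intro b h
  interval_cases b
  exacts [im0_0, im0_1, im0_2, im0_3, im0_4, im0_5, im0_6, im0_7]

theorem im1_0 : chkIm 1 0 = true := by decide +kernel
theorem im1_1 : chkIm 1 1024 = true := by decide +kernel
theorem im1_2 : chkIm 1 2048 = true := by decide +kernel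
theorem im1_3 : chkIm 1 3072 = true := by decide +kernel
theorem im1_4 : chkIm 1 4096 = true := by decide +kernel
theorem im1_5 : chkIm 1 5120 = true := by decide +kernel
theorem im1_6 : chkIm 1 6144 = true := by decide +kernel
theorem im1_7 : chkIm 1 7168 = true := by decide +kernel

theorem im1 : ∀ b < 8, chkIm 1 (1024 * b) = true := by
  intro b h
  interval_cases b
  exacts [im1_0, im1_1, im1_2, im1_3, im1_4, im1_5, im1_6, im1_7]

theorem im2_0 : chkIm 2 0 = true := by decide +kernel
theorem im2_1 : chkIm 2 1024 = true := by decide +kernel
theorem im2_2 : chkIm 2 2048 = true := by decide +kernel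
theorem im2_3 : chkIm 2 3072 = true := by decide +kernel
theorem im2_4 : chkIm 2 4096 = true := by decide +kernel
theorem im2_5 : chkIm 2 5120 = true := by decide +kernel
theorem im2_6 : chkIm 2 6144 = true := by decide +kernel
theorem im2_7 : chkIm 2 7168 = true := by decide +kernel

theorem im2 : ∀ b < 8, chkIm 2 (1024 * b) = true := by
  intro b h
  interval_cases b
  exacts [im2_0, im2_1, im2_2, im2_3, im2_4, im2_5, im2_6, im2_7]


end CfsgLib.LyThree
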